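import Mathlib
import Groth.Prelude.Def_ArtFun2

/-! Basic toolkit for the category `ArtFun.Art Λ k`: quotient objects, isomorphisms from bijections,
induction along small extensions. -/

set_option autoImplicit false

namespace Groth.Agent.H23.AF

open CategoryTheory ArtFun ArtFun.Art

universe u v

variable {Λ : Type u} {k : Type u} [CommRing Λ] [Field k] [Algebra Λ k]

lemma ker_le_maximalIdeal {B A : Art Λ k} (μ : B ⟶ A) :
    RingHom.ker μ.toAlgHom ≤ IsLocalRing.maximalIdeal B := by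
  intro b hb
  rw [mem_maximalIdeal_iff, ← res_app μ b]
  rw [RingHom.mem_ker] at hb
  rw [hb, map_zero]

theorem maximalIdeal_nilpotent (B : Art Λ k) : ∃ N : ℕ, IsLocalRing.maximalIdeal B ^ N = ⊥ := by
  have h := IsArtinianRing.isNilpotent_jacobson_bot (R := B)
  rw [IsLocalRing.jacobson_eq_maximalIdeal _ bot_ne_top] at h
  exact h

lemma map_mem_maximalIdeal {B A : Art Λ k} (μ : B ⟶ A) {b : B}
    (hb : b ∈ IsLocalRing.maximalIdeal B) : μ b ∈ IsLocalRing.maximalIdeal A := by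
  rw [mem_maximalIdeal_iff] at hb ⊢
  rw [res_app, hb]

lemma mem_maximalIdeal_of_map {B A : Art Λ k} (μ : B ⟶ A) {b : B}
    (hb : μ b ∈ IsLocalRing.maximalIdeal A) : b ∈ IsLocalRing.maximalIdeal B := by
  rw [mem_maximalIdeal_iff] at hb ⊢
  rwa [res_app] at hb

/-- A bijective morphism has an inverse. -/
theorem exists_inv_of_bijective {A B : Art Λ k} (f : A ⟶ B) (hf : Function.Bijective f) :
    ∃ g : B ⟶ A, f ≫ g = 𝟙 A ∧ g ≫ f = 𝟙 B := by
  let e : A ≃ₐ[Λ] B := AlgEquiv.ofBijective f.toAlgHom hf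
  refine ⟨⟨e.symm.toAlgHom, ?_⟩, ?_, ?_⟩
  · apply AlgHom.ext
    intro b
    obtain ⟨a, rfl⟩ := hf.2 b
    change A.res (e.symm (e a)) = B.res (f a)
    rw [e.symm_apply_apply, res_app]
  · apply hom_ext
    apply AlgHom.ext
    intro a
    exact e.symm_apply_apply a
  · apply hom_ext
    apply AlgHom.ext
    intro b
    exact e.apply_symm_apply b

theorem isIso_of_bijective {A B : Art Λ k} (f : A ⟶ B) (hf : Function.Bijective f) : IsIso f := by
  obtain ⟨g, h1, h2⟩ := exists_inv_of_bijective f hf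
  exact ⟨⟨g, h1, h2⟩⟩

theorem bijective_of_isIso {A B : Art Λ k} (f : A ⟶ B) [IsIso f] : Function.Bijective f := by
  refine ⟨fun a b hab => ?_, fun b => ⟨inv f b, ?_⟩⟩
  · have h1 : (f ≫ inv f) a = (f ≫ inv f) b := by
      rw [Art.comp_apply, Art.comp_apply, hab]
    rwa [IsIso.hom_inv_id, Art.id_apply, Art.id_apply] at h1
  · have : (inv f ≫ f) b = b := by rw [IsIso.inv_hom_id, Art.id_apply]
    rwa [Art.comp_apply] at this

section quot

variable (B : Art Λ k) (J : Ideal B) (hJ : J ≤ IsLocalRing.maximalIdeal B)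

include hJ in
lemma ne_top_of_le_maximalIdeal : J ≠ ⊤ := by
  rintro rfl
  exact (IsLocalRing.maximalIdeal.isMaximal B).ne_top (top_le_iff.1 hJ)

/-- The quotient of an object by an ideal contained in the maximal ideal. -/
noncomputable def quot : Art Λ k :=
  haveI : Nontrivial (B ⧸ J) := Ideal.Quotient.nontrivial_iff.2 (ne_top_of_le_maximalIdeal B J hJ)
  haveI : IsLocalRing (B ⧸ J) :=
    IsLocalRing.of_surjective' (Ideal.Quotient.mk J) Ideal.Quotient.mk_surjective
  { carrier := B ⧸ J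
    res := Ideal.Quotient.liftₐ J B.res (fun a ha => (mem_maximalIdeal_iff B a).1 (hJ ha))
    res_surjective := fun c => by
      obtain ⟨b, rfl⟩ := B.res_surjective c
      exact ⟨Ideal.Quotient.mk J b, rfl⟩ }

/-- The quotient morphism. -/
noncomputable def quotMk : B ⟶ quot B J hJ :=
  ⟨Ideal.Quotient.mkₐ Λ J, AlgHom.ext fun _ => rfl⟩

lemma quotMk_apply (b : B) : quotMk B J hJ b = Ideal.Quotient.mk J b := rfl

lemma quotMk_surjective : Function.Surjective (quotMk B J hJ) :=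
  Ideal.Quotient.mk_surjective

lemma quotMk_eq_zero_iff (b : B) : quotMk B J hJ b = 0 ↔ b ∈ J :=
  Ideal.Quotient.eq_zero_iff_mem

lemma ker_quotMk : RingHom.ker (quotMk B J hJ).toAlgHom = J := by
  ext b
  rw [RingHom.mem_ker]
  exact Ideal.Quotient.eq_zero_iff_mem

/-- The morphism induced on a quotient. -/
noncomputable def quotLift {A : Art Λ k} (μ : B ⟶ A) (h : J ≤ RingHom.ker μ.toAlgHom) :
    quot B J hJ ⟶ A :=
  ⟨Ideal.Quotient.liftₐ J μ.toAlgHom (fun a ha => (RingHom.mem_ker).1 (h ha)), by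
    apply AlgHom.ext
    intro x
    obtain ⟨b, rfl⟩ := Ideal.Quotient.mk_surjective x
    change A.res (μ b) = B.res b
    rw [res_app]⟩

lemma quotMk_quotLift {A : Art Λ k} (μ : B ⟶ A) (h : J ≤ RingHom.ker μ.toAlgHom) :
    quotMk B J hJ ≫ quotLift B J hJ μ h = μ :=
  hom_ext (AlgHom.ext fun _ => rfl)

lemma quotLift_mk {A : Art Λ k} (μ : B ⟶ A) (h : J ≤ RingHom.ker μ.toAlgHom) (b : B) :
    quotLift B J hJ μ h (quotMk B J hJ b) = μ b := rfl

lemma quotLift_surjective {A : Art Λ k} (μ : B ⟶ A) (h : J ≤ RingHom.ker μ.toAlgHom)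
    (hμ : Function.Surjective μ) : Function.Surjective (quotLift B J hJ μ h) := by
  intro a
  obtain ⟨b, rfl⟩ := hμ a
  exact ⟨quotMk B J hJ b, rfl⟩

lemma quotLift_injective {A : Art Λ k} (μ : B ⟶ A) (h : J = RingHom.ker μ.toAlgHom) :
    Function.Injective (quotLift B J hJ μ h.le) := by
  intro x y hxy
  obtain ⟨b, rfl⟩ := quotMk_surjective B J hJ x
  obtain ⟨c, rfl⟩ := quotMk_surjective B J hJ y
  rw [quotLift_mk, quotLift_mk] at hxy
  rw [quotMk_apply, quotMk_apply]
  refine Ideal.Quotient.eq.2 ?_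
  rw [h, RingHom.mem_ker, map_sub]
  exact sub_eq_zero.2 hxy

end quot

/-- Induction along small extensions inside a fixed object. -/
theorem ideal_induction (B : Art Λ k) (P : Ideal B → Prop) (h0 : P ⊥)
    (hstep : ∀ (J : Ideal B) (x : B), P J → x ∉ J → x ∈ IsLocalRing.maximalIdeal B →
      (∀ a ∈ IsLocalRing.maximalIdeal B, a * x ∈ J) → P (J ⊔ Ideal.span {x})) :
    ∀ I : Ideal B, I ≤ IsLocalRing.maximalIdeal B → P I := by
  classical
  intro I hI
  have hne : {J : Ideal B | J ≤ I ∧ P J}.Nonempty := ⟨⊥, bot_le, h0⟩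
  obtain ⟨J, ⟨hJI, hPJ⟩, hmax⟩ :=
    (wellFounded_gt : WellFounded ((· > ·) : Ideal B → Ideal B → Prop)).has_min _ hne
  by_cases hJeq : J = I
  · exact hJeq ▸ hPJ
  exfalso
  have hlt : J < I := lt_of_le_of_ne hJI hJeq
  obtain ⟨x₀, hx₀I, hx₀J⟩ := SetLike.exists_of_lt hlt
  obtain ⟨N, hN⟩ := maximalIdeal_nilpotent B
  let Q : ℕ → Prop := fun n => IsLocalRing.maximalIdeal B ^ n * Ideal.span {x₀} ≤ J
  have hQN : Q N := by
    change IsLocalRing.maximalIdeal B ^ N * Ideal.span {x₀} ≤ J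
    rw [hN, Ideal.bot_mul]
    exact bot_le
  have hex : ∃ n, Q n := ⟨N, hQN⟩
  have hn : Q (Nat.find hex) := Nat.find_spec hex
  have hn0 : Nat.find hex ≠ 0 := by
    intro h0'
    rw [h0'] at hn
    change IsLocalRing.maximalIdeal B ^ 0 * Ideal.span {x₀} ≤ J at hn
    rw [pow_zero, one_mul] at hn
    exact hx₀J (hn (Ideal.subset_span rfl))
  obtain ⟨n', hn'⟩ := Nat.exists_eq_succ_of_ne_zero hn0
  have hn'Q : ¬ Q n' := Nat.find_min hex (by omega)
  obtain ⟨x, hx, hxJ⟩ := SetLike.not_le_iff_exists.1 hn'Q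
  have hxI : x ∈ I :=
    (Ideal.mul_le_right.trans ((Ideal.span_singleton_le_iff_mem _).2 hx₀I)) hx
  have hmx : ∀ a ∈ IsLocalRing.maximalIdeal B, a * x ∈ J := fun a ha => hn (by
    rw [hn', pow_succ', mul_assoc]
    exact Ideal.mul_mem_mul ha hx)
  have hP := hstep J x hPJ hxJ (hI hxI) hmx
  refine hmax (J ⊔ Ideal.span {x}) ⟨sup_le hJI ((Ideal.span_singleton_le_iff_mem _).2 hxI), hP⟩ ?_
  exact lt_of_le_of_ne le_sup_left
    (fun h => hxJ (h ▸ (le_sup_right : Ideal.span {x} ≤ J ⊔ Ideal.span {x}) (Ideal.subset_span rfl)))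

/-- The transition map between quotients. -/
noncomputable def quotFactor (B : Art Λ k) (J J' : Ideal B) (hJ' : J' ≤ IsLocalRing.maximalIdeal B)
    (h : J ≤ J') : quot B J (h.trans hJ') ⟶ quot B J' hJ' :=
  quotLift B J (h.trans hJ') (quotMk B J' hJ') (by rw [ker_quotMk]; exact h)

lemma quotMk_quotFactor (B : Art Λ k) (J J' : Ideal B) (hJ' : J' ≤ IsLocalRing.maximalIdeal B)
    (h : J ≤ J') : quotMk B J (h.trans hJ') ≫ quotFactor B J J' hJ' h = quotMk B J' hJ' :=
  quotMk_quotLift _ _ _ _ _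

/-- The step of the induction: adding a socle element gives a small extension of quotients. -/
theorem isSmallExt_quotFactor (B : Art Λ k) (J : Ideal B) (x : B) (hxJ : x ∉ J)
    (hx : x ∈ IsLocalRing.maximalIdeal B) (hJ : J ≤ IsLocalRing.maximalIdeal B)
    (hmx : ∀ a ∈ IsLocalRing.maximalIdeal B, a * x ∈ J) :
    IsSmallExt (quotFactor B J (J ⊔ Ideal.span {x})
      (sup_le hJ ((Ideal.span_singleton_le_iff_mem _).2 hx)) le_sup_left) := by
  have hJ' : J ⊔ Ideal.span {x} ≤ IsLocalRing.maximalIdeal B :=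
    sup_le hJ ((Ideal.span_singleton_le_iff_mem _).2 hx)
  have hker : RingHom.ker (quotFactor B J (J ⊔ Ideal.span {x}) hJ' le_sup_left).toAlgHom =
      Ideal.span {quotMk B J hJ x} := by
    ext y
    obtain ⟨b, rfl⟩ := quotMk_surjective B J hJ y
    rw [RingHom.mem_ker]
    change quotLift B J hJ (quotMk B (J ⊔ Ideal.span {x}) hJ') _ (quotMk B J hJ b) = 0 ↔ _
    rw [quotLift_mk, quotMk_eq_zero_iff, Ideal.mem_span_singleton']
    constructor
    · intro hb
      obtain ⟨j, hj, z, hz, rfl⟩ := Submodule.mem_sup.1 hb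
      obtain ⟨c, rfl⟩ := Ideal.mem_span_singleton'.1 hz
      refine ⟨quotMk B J hJ c, ?_⟩
      rw [← map_mul, map_add, (quotMk_eq_zero_iff B J hJ j).2 hj, zero_add]
    · rintro ⟨c, hc⟩
      obtain ⟨c, rfl⟩ := quotMk_surjective B J hJ c
      rw [← map_mul] at hc
      have h1 : c * x - b ∈ J := by
        rw [← quotMk_eq_zero_iff B J hJ, map_sub, hc, sub_self]
      have : b = c * x - (c * x - b) := by ring
      rw [this]
      exact Submodule.sub_mem _ (Ideal.mem_sup_right (Ideal.mul_mem_left _ _ (Ideal.subset_span rfl)))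
        (Ideal.mem_sup_left h1)
  refine ⟨quotLift_surjective _ _ _ _ _ (quotMk_surjective _ _ _), ?_, ?_, ?_⟩
  · rw [hker]
    intro h
    rw [Ideal.span_singleton_eq_bot] at h
    exact hxJ ((quotMk_eq_zero_iff B J hJ x).1 h)
  · rw [hker]
    exact ⟨⟨_, rfl⟩⟩
  · rw [hker, eq_bot_iff, Ideal.mul_le]
    intro a ha y hy
    obtain ⟨c, rfl⟩ := Ideal.mem_span_singleton'.1 hy
    obtain ⟨a, rfl⟩ := quotMk_surjective B J hJ a
    obtain ⟨c, rfl⟩ := quotMk_surjective B J hJ c
    have ha' : a ∈ IsLocalRing.maximalIdeal B := mem_maximalIdeal_of_map _ ha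
    rw [Ideal.mem_bot, ← map_mul, ← map_mul, quotMk_eq_zero_iff]
    have : a * (c * x) = c * (a * x) := by ring
    rw [this]
    exact Ideal.mul_mem_left _ _ (hmx a ha')

/-- Every surjective morphism is a composite of small extensions (induction principle). -/
theorem surj_induction
    (P : ∀ ⦃A B : Art Λ k⦄, (B ⟶ A) → Prop)
    (hiso : ∀ ⦃A B : Art Λ k⦄ (e : B ⟶ A), IsIso e → P e)
    (hsmall : ∀ ⦃A B : Art Λ k⦄ (p : B ⟶ A), IsSmallExt p → P p)
    (hcomp : ∀ ⦃A B C : Art Λ k⦄ (p : C ⟶ B) (q : B ⟶ A), P p → P q → P (p ≫ q))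
    ⦃A B : Art Λ k⦄ (f : B ⟶ A) (hf : Function.Surjective f) : P f := by
  have key : ∀ I : Ideal B, I ≤ IsLocalRing.maximalIdeal B →
      ∀ hI : I ≤ IsLocalRing.maximalIdeal B, P (quotMk B I hI) := by
    apply ideal_induction B (fun I => ∀ hI : I ≤ IsLocalRing.maximalIdeal B, P (quotMk B I hI))
    · intro hI
      apply hiso
      apply isIso_of_bijective
      refine ⟨?_, quotMk_surjective _ _ _⟩
      intro a b hab
      have : a - b ∈ (⊥ : Ideal B) := by
        rw [← quotMk_eq_zero_iff B ⊥ hI, map_sub, hab, sub_self]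
      exact sub_eq_zero.1 ((Ideal.mem_bot).1 this)
    · intro J x hPJ hxJ hx hmx hI
      have hJ : J ≤ IsLocalRing.maximalIdeal B := le_sup_left.trans hI
      rw [← quotMk_quotFactor B J (J ⊔ Ideal.span {x}) hI le_sup_left]
      exact hcomp _ _ (hPJ hJ) (hsmall _ (isSmallExt_quotFactor B J x hxJ hx hJ hmx))
  have hker := ker_le_maximalIdeal f
  have h1 := key _ hker hker
  have h2 : P (quotLift B _ hker f le_rfl) := by
    apply hiso
    apply isIso_of_bijective
    exact ⟨quotLift_injective B _ hker f rfl, quotLift_surjective B _ hker f le_rfl hf⟩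
  have := hcomp _ _ h1 h2
  rwa [quotMk_quotLift] at this

end Groth.Agent.H23.AF
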